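import Mathlib

open TensorProduct

namespace Groth.Agent.H5.InjLoc
universe u

variable {R : Type u} [CommRing R] {P₁ P₂ : Type u} [AddCommGroup P₁] [Module R P₁]
  [AddCommGroup P₂] [Module R P₂]

/-- Lemma B: a left inverse up to `c` gives injectivity on the fibres where `c` is invertible -/
theorem injective_lTensor_of_comp (φ : P₁ →ₗ[R] P₂) (h : P₂ →ₗ[R] P₁) (c : R)
    (hc : h ∘ₗ φ = c • LinearMap.id) (q : PrimeSpectrum R) (hq : c ∉ q.asIdeal) :
    Function.Injective (φ.lTensor q.asIdeal.ResidueField) := by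
  rw [injective_iff_map_eq_zero]
  intro x hx
  have h1 : (h.lTensor q.asIdeal.ResidueField) ((φ.lTensor q.asIdeal.ResidueField) x) = c • x := by
    rw [← LinearMap.comp_apply, ← LinearMap.lTensor_comp, hc]
    simp
  rw [hx, map_zero] at h1
  have h2 : c • x = (algebraMap R q.asIdeal.ResidueField c) • x := by
    rw [algebraMap_smul]
  rw [h2] at h1
  have hne : algebraMap R q.asIdeal.ResidueField c ≠ 0 := by
    rw [Ne, Ideal.algebraMap_residueField_eq_zero]; exact hq
  exact (smul_eq_zero.mp h1.symm).resolve_left hne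

section LemmaA
variable [Module.Finite R P₁] [Module.Projective R P₁] [Module.Finite R P₂]
  [Module.Projective R P₂]

/-- Lemma A: injectivity on the fibre at `p` gives a left inverse up to some `c ∉ p` -/
theorem exists_comp_of_injective_lTensor (φ : P₁ →ₗ[R] P₂) (p : PrimeSpectrum R)
    (hp : Function.Injective (φ.lTensor p.asIdeal.ResidueField)) :
    ∃ (h : P₂ →ₗ[R] P₁) (c : R), c ∉ p.asIdeal ∧ h ∘ₗ φ = c • LinearMap.id := by
  set A := Localization.AtPrime p.asIdeal with hA
  set k := p.asIdeal.ResidueField with hk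
  set S := p.asIdeal.primeCompl with hS
  let l : A ⊗[R] P₁ →ₗ[A] A ⊗[R] P₂ := φ.baseChange A
  let e₁ := TensorProduct.AlgebraTensorModule.cancelBaseChange R A A k P₁
  let e₂ := TensorProduct.AlgebraTensorModule.cancelBaseChange R A A k P₂
  have hnat : ∀ x, e₂ (l.lTensor k x) = φ.lTensor k (e₁ x) := by
    intro x
    induction x using TensorProduct.induction_on with
    | zero => simp
    | add x y hx hy => simp only [map_add, hx, hy]
    | tmul m y =>
      induction y using TensorProduct.induction_on with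
      | zero => simp
      | add y z hy hz => simp only [tmul_add, map_add, hy, hz]
      | tmul a n => simp [l, e₁, e₂]
  have hinj : Function.Injective (l.lTensor (IsLocalRing.ResidueField A)) := by
    intro x y hxy
    have h1 : φ.lTensor k (e₁ x) = φ.lTensor k (e₁ y) := by
      rw [← hnat, ← hnat]; exact congrArg e₂ hxy
    exact e₁.injective (hp h1)
  haveI : Module.Free A (A ⊗[R] P₂) := Module.free_of_flat_of_isLocalRing
  obtain ⟨l', hl'⟩ := (IsLocalRing.split_injective_iff_lTensor_residueField_injective l).mpr hinj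
  let f₁ : P₁ →ₗ[R] A ⊗[R] P₁ := TensorProduct.mk R A P₁ 1
  let f₂ : P₂ →ₗ[R] A ⊗[R] P₂ := TensorProduct.mk R A P₂ 1
  haveI : Module.FinitePresentation R P₂ := Module.finitePresentation_of_projective R P₂
  obtain ⟨h, s, hs⟩ := Module.FinitePresentation.exists_lift_of_isLocalizedModule S f₁
    ((l'.restrictScalars R) ∘ₗ f₂)
  have hcomm : f₂ ∘ₗ φ = (l.restrictScalars R) ∘ₗ f₁ := by
    ext x
    simp [f₁, f₂, l]
  have H : f₁ ∘ₗ (h ∘ₗ φ) = f₁ ∘ₗ ((s : R) • LinearMap.id) := by
    rw [← LinearMap.comp_assoc, hs]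
    ext x
    have h2 : f₂ (φ x) = l (f₁ x) := LinearMap.congr_fun hcomm x
    have h3 : l' (l (f₁ x)) = f₁ x := LinearMap.congr_fun hl' (f₁ x)
    simp only [LinearMap.smul_comp, LinearMap.smul_apply, LinearMap.comp_apply,
      LinearMap.restrictScalars_apply, h2, h3, LinearMap.id_apply, map_smul]
    rfl
  obtain ⟨t, ht⟩ := Module.Finite.exists_smul_of_comp_eq_of_isLocalizedModule S f₁ _ _ H
  refine ⟨(t : R) • h, (t : R) * (s : R), ?_, ?_⟩
  · exact (t * s).2
  · rw [LinearMap.smul_comp, mul_smul]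
    exact ht

end LemmaA


/-- the ideal of scalars `c` for which `φ` has a left inverse up to `c` -/
def leftInvIdeal (φ : P₁ →ₗ[R] P₂) : Ideal R where
  carrier := {c | ∃ h : P₂ →ₗ[R] P₁, h ∘ₗ φ = c • LinearMap.id}
  add_mem' := by
    rintro a b ⟨h, hh⟩ ⟨h', hh'⟩
    exact ⟨h + h', by rw [LinearMap.add_comp, hh, hh', add_smul]⟩
  zero_mem' := ⟨0, by simp⟩
  smul_mem' := by
    rintro r a ⟨h, hh⟩
    exact ⟨r • h, by rw [LinearMap.smul_comp, hh, smul_eq_mul, mul_smul]⟩

theorem mem_leftInvIdeal (φ : P₁ →ₗ[R] P₂) (c : R) :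
    c ∈ leftInvIdeal φ ↔ ∃ h : P₂ →ₗ[R] P₁, h ∘ₗ φ = c • LinearMap.id := Iff.rfl

section Loc
variable (f : R) (φ : P₁ →ₗ[R] P₂) (h : P₂ →ₗ[R] P₁) (N : ℕ)
  (hh : h ∘ₗ φ = (f ^ N) • LinearMap.id)

local notation "Sf" => Submonoid.powers f
local notation "Af" => Localization.Away f

include hh in
theorem exists_leftInverse_loc :
    ∃ L : LocalizedModule Sf P₂ →ₗ[Af] LocalizedModule Sf P₁,
      ∀ z, L (LocalizedModule.map Sf φ z) = z := by
  have hu : IsUnit (algebraMap R Af (f ^ N)) :=
    IsLocalization.map_units Af (⟨f ^ N, ⟨N, rfl⟩⟩ : Sf)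
  have h1 : ∀ z, LocalizedModule.map Sf h (LocalizedModule.map Sf φ z) =
      (algebraMap R Af (f ^ N)) • z := by
    intro z
    induction z using LocalizedModule.induction_on with
    | h x s =>
      rw [LocalizedModule.map_mk, LocalizedModule.map_mk]
      have : h (φ x) = (f ^ N) • x := by
        have := LinearMap.congr_fun hh x
        simpa using this
      rw [this, algebraMap_smul, LocalizedModule.smul'_mk]
  refine ⟨(hu.unit⁻¹ : Afˣ).1 • LocalizedModule.map Sf h, fun z => ?_⟩
  rw [LinearMap.smul_apply, h1, smul_smul]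
  have : (hu.unit⁻¹ : Afˣ).1 * algebraMap R Af (f ^ N) = 1 := by
    have := hu.unit.inv_mul
    simpa using this
  rw [this, one_smul]

include hh in
theorem injective_loc : Function.Injective (LocalizedModule.map Sf φ) := by
  obtain ⟨L, hL⟩ := exists_leftInverse_loc f φ h N hh
  exact Function.LeftInverse.injective hL

include hh in
theorem projective_coker_loc [Module.Projective R P₂] :
    Module.Projective Af (LocalizedModule Sf (P₂ ⧸ LinearMap.range φ)) := by
  obtain ⟨L, hL⟩ := exists_leftInverse_loc f φ h N hh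
  set φf := LocalizedModule.map Sf φ with hφf
  set π := LocalizedModule.map Sf (LinearMap.range φ).mkQ with hπ
  have hπsurj : Function.Surjective π :=
    LocalizedModule.map_surjective Sf _ (Submodule.mkQ_surjective _)
  have hπφ : ∀ z, π (φf z) = 0 := by
    intro z
    induction z using LocalizedModule.induction_on with
    | h x s =>
      rw [hφf, hπ, LocalizedModule.map_mk, LocalizedModule.map_mk]
      have : (LinearMap.range φ).mkQ (φ x) = 0 := by
        rw [Submodule.mkQ_apply, Submodule.Quotient.mk_eq_zero]; exact ⟨x, rfl⟩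
      rw [this, LocalizedModule.zero_mk]
  have hker : ∀ y, π y = 0 → ∃ z, φf z = y := by
    intro y hy
    have hex := LocalizedModule.map_exact Sf φ (LinearMap.range φ).mkQ
      (LinearMap.exact_map_mkQ_range φ)
    exact (hex y).mp hy
  let e : LocalizedModule Sf P₂ →ₗ[Af] LocalizedModule Sf P₂ := LinearMap.id - φf ∘ₗ L
  have heφ : ∀ z, e (φf z) = 0 := by
    intro z
    simp only [e, LinearMap.sub_apply, LinearMap.id_apply, LinearMap.comp_apply, hL, sub_self]
  have hle : LinearMap.ker π ≤ LinearMap.ker e := by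
    intro y hy
    obtain ⟨z, rfl⟩ := hker y hy
    exact heφ z
  let σ : LocalizedModule Sf (P₂ ⧸ LinearMap.range φ) →ₗ[Af] LocalizedModule Sf P₂ :=
    (Submodule.liftQ (LinearMap.ker π) e hle) ∘ₗ
      (π.quotKerEquivOfSurjective hπsurj).symm.toLinearMap
  have hσ : ∀ y, σ (π y) = e y := by
    intro y
    have : (π.quotKerEquivOfSurjective hπsurj).symm (π y) = Submodule.Quotient.mk y := by
      rw [LinearEquiv.symm_apply_eq]
      rfl
    simp only [σ, LinearMap.comp_apply, LinearEquiv.coe_coe, this, Submodule.liftQ_apply]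
  refine Module.Projective.of_split σ π ?_
  ext c
  obtain ⟨y, rfl⟩ := hπsurj c
  simp only [LinearMap.comp_apply, LinearMap.id_apply, hσ, e, LinearMap.sub_apply, map_sub, hπφ,
    sub_zero]

end Loc

theorem main {R : Type u} [CommRing R] {P₁ P₂ : Type u} [AddCommGroup P₁] [Module R P₁]
    [AddCommGroup P₂] [Module R P₂] [Module.Finite R P₁] [Module.Projective R P₁]
    [Module.Finite R P₂] [Module.Projective R P₂] (φ : P₁ →ₗ[R] P₂) :
    IsOpen {p : PrimeSpectrum R | Function.Injective (φ.lTensor p.asIdeal.ResidueField)} ∧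
    ∀ f : R, (↑(PrimeSpectrum.basicOpen f) : Set (PrimeSpectrum R)) ⊆
        {p : PrimeSpectrum R | Function.Injective (φ.lTensor p.asIdeal.ResidueField)} →
      Function.Injective (LocalizedModule.map (Submonoid.powers f) φ) ∧
      Module.Finite (Localization.Away f)
        (LocalizedModule (Submonoid.powers f) (P₂ ⧸ LinearMap.range φ)) ∧
      Module.Projective (Localization.Away f)
        (LocalizedModule (Submonoid.powers f) (P₂ ⧸ LinearMap.range φ)) := by
  constructor
  · rw [isOpen_iff_forall_mem_open]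
    intro p hp
    obtain ⟨h, c, hc, hhc⟩ := exists_comp_of_injective_lTensor φ p hp
    refine ⟨(PrimeSpectrum.basicOpen c : Set (PrimeSpectrum R)), ?_,
      (PrimeSpectrum.basicOpen c).isOpen, hc⟩
    intro q hq
    exact injective_lTensor_of_comp φ h c hhc q hq
  · intro f hf
    have hrad : f ∈ (leftInvIdeal φ).radical := by
      rw [Ideal.radical_eq_sInf, Ideal.mem_sInf]
      rintro q ⟨hJq, hqp⟩
      by_contra hfq
      have hqU : (⟨q, hqp⟩ : PrimeSpectrum R) ∈
          {p : PrimeSpectrum R | Function.Injective (φ.lTensor p.asIdeal.ResidueField)} :=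
        hf hfq
      obtain ⟨h, c, hc, hhc⟩ := exists_comp_of_injective_lTensor φ ⟨q, hqp⟩ hqU
      exact hc (hJq ⟨h, hhc⟩)
    obtain ⟨N, hN⟩ := hrad
    obtain ⟨h, hh⟩ := hN
    exact ⟨injective_loc f φ h N hh, inferInstance, projective_coker_loc f φ h N hh⟩

end Groth.Agent.H5.InjLoc
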